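import Mathlib
import Cfsg.Agent.Dickson.Action

/-!
Transitive actions of finite simple groups in which a non-identity element fixes at most four
points: fixed sets, parities and semiregular subgroups.
-/

set_option autoImplicit false

namespace CfsgLib.FixityFour

open MulAction Equiv
open scoped Pointwise

variable {G Ω : Type*} [Group G] [MulAction G Ω] [Finite Ω] {p : ℕ}

/-- Every non-identity element fixes at most four points. -/
def Fix4 (G Ω : Type*) [Group G] [MulAction G Ω] : Prop :=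
  ∀ g : G, g ≠ 1 → (fixedBy Ω g).ncard ≤ 4

omit [Finite Ω] in
theorem fixedBy_subset_pow (g : G) (j : ℕ) : fixedBy Ω g ⊆ fixedBy Ω (g ^ j) :=
  fun _ hx => MulAction.mem_fixedBy.2 (by
    induction j with
    | zero => rw [pow_zero, one_smul]
    | succ j ih => rw [pow_succ, mul_smul, MulAction.mem_fixedBy.1 hx, ih])

omit [Finite Ω] in
theorem fixedBy_subset_of_mem_zpowers {g h : G} (hh : h ∈ Subgroup.zpowers g) :
    fixedBy Ω g ⊆ fixedBy Ω h := by
  intro x hx
  have : Subgroup.zpowers g ≤ MulAction.stabilizer G x := Subgroup.zpowers_le.2 hx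
  exact this hh

theorem ncard_fixedBy_conj (x g : G) :
    (fixedBy Ω (x * g * x⁻¹)).ncard = (fixedBy Ω g).ncard := by
  rw [← MulAction.smul_fixedBy, Set.ncard_smul_set]

/-- An element fixing a set of the largest possible size fixes nothing else. -/
theorem fixedBy_eq_of_subset {g : G} {A : Set Ω} (hA : A ⊆ fixedBy Ω g)
    (h : (fixedBy Ω g).ncard ≤ A.ncard) : fixedBy Ω g = A :=
  (Set.eq_of_subset_of_ncard_le hA h (Set.toFinite _)).symm

omit [Finite Ω] in
theorem mem_fixing_iff {g : G} {A : Set Ω} :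
    g ∈ fixingSubgroup G A ↔ A ⊆ fixedBy Ω g := by
  rw [mem_fixingSubgroup_iff]
  exact Iff.rfl

theorem fixing_fixedBy_eq (h4 : Fix4 G Ω) {A : Set Ω} (hA : A.ncard = 4) {g : G}
    (hg : g ∈ fixingSubgroup G A) (hg1 : g ≠ 1) : fixedBy Ω g = A :=
  fixedBy_eq_of_subset (mem_fixing_iff.1 hg) (hA ▸ h4 g hg1)

omit [Finite Ω] in
/-- An element commuting with `z` maps the fixed set of `z` to itself. -/
theorem mem_stabilizer_of_commute {g z : G} (h : g * z = z * g) :
    g ∈ stabilizer G (fixedBy Ω z) := by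
  rw [MulAction.mem_stabilizer_iff, MulAction.smul_fixedBy, h, mul_inv_cancel_right]

omit [Finite Ω] in
theorem normalizer_fixing_le {A : Set Ω} {g : G} (hg : g ∈ stabilizer G A) {k : G}
    (hk : k ∈ fixingSubgroup G A) : g * k * g⁻¹ ∈ fixingSubgroup G A := by
  rw [mem_fixing_iff] at hk ⊢
  rw [← MulAction.smul_fixedBy]
  intro x hx
  rw [← MulAction.mem_stabilizer_iff.1 hg] at hx
  exact Set.smul_set_mono hk hx

omit [Finite Ω] in
theorem fixing_le_stabilizer {A : Set Ω} : fixingSubgroup G A ≤ stabilizer G A := fun g hg => by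
  rw [MulAction.mem_stabilizer_iff]
  ext x
  constructor
  · rintro ⟨y, hy, rfl⟩
    show g • y ∈ A
    rwa [(mem_fixing_iff.1 hg hy : g • y = y)]
  · exact fun hx => ⟨x, hx, mem_fixing_iff.1 hg hx⟩

omit [Finite Ω] in
theorem smul_mem_of_stabilizer {A : Set Ω} {g : G} (hg : g ∈ stabilizer G A) {x : Ω} (hx : x ∈ A) :
    g • x ∈ A := by
  rw [← MulAction.mem_stabilizer_iff.1 hg]
  exact Set.smul_mem_smul_set hx

/-- A subgroup acting freely on an invariant set divides its cardinality. -/
theorem card_dvd_ncard_of_free [Finite G] {U : Subgroup G} {B : Set Ω}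
    (hB : ∀ u ∈ U, ∀ x ∈ B, u • x ∈ B) (hfree : ∀ u ∈ U, ∀ x ∈ B, u • x = x → u = 1) :
    Nat.card U ∣ B.ncard := by
  letI : MulAction U B :=
    { smul := fun u x => ⟨(u : G) • (x : Ω), hB u u.2 x x.2⟩
      one_smul := fun x => Subtype.ext (one_smul G (x : Ω))
      mul_smul := fun u v x => Subtype.ext (mul_smul (u : G) (v : G) (x : Ω)) }
  have h := Dickson.card_dvd_card_of_free (T := U) (S := B)
    fun u x hux => Subtype.ext (hfree u u.2 x x.2 (congrArg Subtype.val hux))
  rwa [Nat.card_coe_set_eq] at h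

/-- A subgroup preserving `A`, whose non-identity elements fix nothing outside `A`. -/
theorem card_dvd_sub_ncard [Finite G] {U : Subgroup G} {A : Set Ω} (hU : U ≤ stabilizer G A)
    (hfree : ∀ u ∈ U, u ≠ 1 → fixedBy Ω u ⊆ A) : Nat.card U ∣ Nat.card Ω - A.ncard := by
  rw [← Set.ncard_compl A (Set.toFinite _)]
  refine card_dvd_ncard_of_free (fun u hu x hx => ?_) fun u hu x hx hux => ?_
  · intro hmem
    have h := smul_mem_of_stabilizer (inv_mem (hU hu)) hmem
    rw [inv_smul_smul] at h
    exact hx h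
  · by_contra hu1
    exact hx (hfree u hu hu1 hux)

/-- A non-identity `p`-element has a power of order `p`. -/
theorem exists_pow_orderOf_prime [hp : Fact p.Prime] {g : G} {k : ℕ} (hg : orderOf g = p ^ (k + 1)) :
    orderOf (g ^ p ^ k) = p := by
  rw [orderOf_pow' g (pow_ne_zero _ hp.out.ne_zero), hg,
    Nat.gcd_eq_right (pow_dvd_pow p (Nat.le_succ k)), Nat.pow_div (Nat.le_succ k) hp.out.pos]
  simp

/-- Points outside the fixed set of the element of order `p` in `⟨g⟩` have full period. -/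
theorem pow_eq_one_of_smul [hp : Fact p.Prime] {g : G} {k : ℕ} (hg : orderOf g = p ^ (k + 1))
    {x : Ω} (hx : x ∉ fixedBy Ω (g ^ p ^ k)) {j : ℕ} (hj : g ^ j • x = x) : g ^ j = 1 := by
  by_contra hne
  apply hx
  refine fixedBy_subset_of_mem_zpowers (g := g ^ j) ?_ hj
  have hd : ¬ p ^ (k + 1) ∣ j := fun h => hne (by rw [← hg] at h; exact orderOf_dvd_iff_pow_eq_one.1 h)
  have hc : Nat.gcd (p ^ (k + 1)) j ∣ p ^ k := by
    obtain ⟨i, hi, he⟩ := (Nat.dvd_prime_pow hp.out).1 (Nat.gcd_dvd_left (p ^ (k + 1)) j)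
    rw [he]
    refine pow_dvd_pow p (Nat.le_of_lt_succ (lt_of_le_of_ne hi fun e => hd ?_))
    rw [show k + 1 = i from e.symm, ← he]
    exact Nat.gcd_dvd_right _ _
  obtain ⟨r, hr⟩ := hc
  have h1 : (g ^ Nat.gcd (p ^ (k + 1)) j) ∈ Subgroup.zpowers (g ^ j) := by
    refine ⟨Nat.gcdB (p ^ (k + 1)) j, ?_⟩
    show (g ^ j) ^ Nat.gcdB (p ^ (k + 1)) j = _
    rw [← zpow_natCast g (Nat.gcd _ _), Nat.gcd_eq_gcd_ab, zpow_add, zpow_mul, zpow_natCast,
      ← hg, pow_orderOf_eq_one, one_zpow, one_mul, zpow_mul, zpow_natCast]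
  rw [hr, pow_mul]
  exact Subgroup.pow_mem _ h1 r

section Sign

variable {α : Type*} [Fintype α] [DecidableEq α]

/-- The sign of a permutation all of whose moved points have period `2 ^ (k + 1)`. -/
theorem sign_of_period {σ : Equiv.Perm α} {k m : ℕ} (hσ : σ ^ 2 ^ (k + 1) = 1)
    (hper : ∀ x, (σ ^ 2 ^ k) x = x → σ x = x)
    (hm : σ.support.card = m * 2 ^ (k + 1)) : Equiv.Perm.sign σ = (-1) ^ m := by
  have hrep : σ.cycleType = Multiset.replicate (Multiset.card σ.cycleType) (2 ^ (k + 1)) := by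
    refine Multiset.eq_replicate_card.2 fun n hn => ?_
    have hdvd : n ∣ 2 ^ (k + 1) :=
      (Equiv.Perm.dvd_of_mem_cycleType hn).trans (orderOf_dvd_of_pow_eq_one hσ)
    obtain ⟨c, g', rfl, hd, hc, hcn⟩ := Equiv.Perm.mem_cycleType_iff.1 hn
    obtain ⟨i, hi, rfl⟩ := (Nat.dvd_prime_pow Nat.prime_two).1 hdvd
    by_contra hne
    have hik : i ≤ k := by
      by_contra h
      exact hne (by rw [show i = k + 1 by omega])
    obtain ⟨x, hx⟩ := hc.nonempty_support
    have hcx : c x ≠ x := Equiv.Perm.mem_support.1 hx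
    have hg'x : g' x = x := (hd x).resolve_left hcx
    have hpow : (c ^ 2 ^ k) = 1 := by
      rw [← Nat.add_sub_cancel' hik, pow_add, pow_mul, ← hcn, ← hc.orderOf, pow_orderOf_eq_one, one_pow]
    have := hper x (by
      rw [hd.commute.mul_pow, hpow, one_mul]
      exact Equiv.Perm.pow_apply_eq_self_of_apply_eq_self hg'x _)
    rw [Equiv.Perm.mul_apply, hg'x] at this
    exact hcx this
  have hcard : Multiset.card σ.cycleType = m := by
    have h := σ.sum_cycleType
    rw [hrep, Multiset.sum_replicate, smul_eq_mul, hm] at h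
    exact Nat.eq_of_mul_eq_mul_right (by positivity) h
  rw [Equiv.Perm.sign_of_cycleType, hrep, Multiset.sum_replicate, Multiset.card_replicate, hcard,
    smul_eq_mul, pow_add, Even.neg_one_pow, one_mul]
  exact (Nat.even_pow.2 ⟨even_two, Nat.succ_ne_zero k⟩).mul_left m

end Sign

variable (Ω) in
/-- In a simple non-abelian group every element acts as an even permutation. -/
theorem sign_eq_one [IsSimpleGroup G] (hna : ¬ IsMulCommutative G) [Fintype Ω] [DecidableEq Ω]
    (g : G) : Equiv.Perm.sign (MulAction.toPermHom G Ω g) = 1 := by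
  let φ : G →* ℤˣ := Equiv.Perm.sign.comp (MulAction.toPermHom G Ω)
  rcases (inferInstance : φ.ker.Normal).eq_bot_or_eq_top with h | h
  · exfalso
    apply hna
    have hinj := (MonoidHom.ker_eq_bot_iff φ).1 h
    exact ⟨⟨fun a b => hinj (by rw [map_mul, map_mul, mul_comm])⟩⟩
  · exact (h ▸ Subgroup.mem_top g : g ∈ φ.ker)

variable (Ω) in
/-- An involution moves a multiple of four points. -/
theorem involution_moved_dvd [IsSimpleGroup G] (hna : ¬ IsMulCommutative G) {g : G} (hg : g ^ 2 = 1) :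
    4 ∣ Nat.card Ω - (fixedBy Ω g).ncard := by
  classical
  have := Fintype.ofFinite Ω
  set σ := MulAction.toPermHom G Ω g with hσdef
  have hσ : σ ^ 2 = 1 := by rw [hσdef, ← map_pow, hg, map_one]
  have hfix : Fintype.card (Function.fixedPoints σ) = (fixedBy Ω g).ncard := by
    rw [← Nat.card_eq_fintype_card, ← Nat.card_coe_set_eq]
    rfl
  have h1 := Equiv.Perm.sign_of_pow_two_eq_one hσ
  rw [sign_eq_one Ω hna g, hfix, ← Nat.card_eq_fintype_card] at h1
  have he : Even ((Nat.card Ω - (fixedBy Ω g).ncard) / 2) := by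
    by_contra ho
    rw [(Nat.not_even_iff_odd.1 ho).neg_one_pow] at h1
    exact absurd h1 (by decide)
  have h2 : 2 ∣ Nat.card Ω - (fixedBy Ω g).ncard := by
    by_cases hg1 : g = 1
    · subst hg1
      simp [fixedBy, Set.ncard_univ]
    · haveI : Fact (Nat.Prime 2) := ⟨Nat.prime_two⟩
      have := Equiv.Perm.card_compl_support_modEq (p := 2) (n := 1) (σ := σ) (by rwa [pow_one])
      have hc : σ.supportᶜ.card = (fixedBy Ω g).ncard := by
        rw [← Set.ncard_coe_finset]
        congr 1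
        ext x
        simp [hσdef]
      rw [hc, ← Nat.card_eq_fintype_card] at this
      exact (Nat.modEq_iff_dvd' (by rw [← Set.ncard_univ]; exact Set.ncard_le_ncard (Set.subset_univ _))).1 this
  obtain ⟨a, ha⟩ := h2
  obtain ⟨b, hb⟩ := he
  omega

/-- An element of order `p` fixes a number of points congruent to the degree modulo `p`. -/
theorem fixedBy_modEq [hp : Fact p.Prime] {g : G} (hg : orderOf g = p) :
    Nat.card Ω ≡ (fixedBy Ω g).ncard [MOD p] := by
  have hP : IsPGroup p (Subgroup.zpowers g) := IsPGroup.of_card (n := 1) (by rw [Nat.card_zpowers, hg, pow_one])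
  have h := hP.card_modEq_card_fixedPoints Ω
  rw [Nat.card_coe_set_eq] at h
  convert h using 2
  ext x
  refine ⟨fun hx u => ?_, fun hx => hx ⟨g, Subgroup.mem_zpowers g⟩⟩
  exact fixedBy_subset_of_mem_zpowers u.2 hx

end CfsgLib.FixityFour
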